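import Cfsg.Agent.Isa.I4

/-! Manz: the character degree graph of a solvable group. (helper12) -/

set_option autoImplicit false
set_option maxSynthPendingDepth 3
set_option linter.unusedVariables false
set_option linter.unusedSectionVars false

namespace Cfsg.Agent.PF.CH

open Cfsg.Agent.BG
open scoped _root_.Classical ComplexConjugate commutatorElement

variable {X : Type*} [Group X] [Finite X]
variable {G : Subgroup X}

local notation "Sol" => Group.IsSolvable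

theorem manz (hs : Sol G) : ∃ (f p : ℕ), p.Prime ∧ (∃ η ∈ Irr G, deg η = f) ∧ ∀ χ ∈ Irr G,
    deg χ = 1 ∨ ∃ ξ ∈ Irr G, deg χ ∣ deg ξ ∧ (¬ (deg ξ).Coprime f ∨ p ∣ deg ξ) := by
  by_cases h0 : ⁅G, G⁆ ≤ ⊥
  · exact ⟨1, 2, Nat.prime_two, ⟨_, one_mem_Irr G, deg_one G⟩, fun χ hχ =>
      .inl ((deg_eq_one_iff hχ).2 (h0.trans bot_le))⟩
  obtain ⟨K, -, hK⟩ := exists_mono (R := ⁅G, G⁆) (normal_bot G) h0
  rcases hK.dich (quotient_sol _ hs) with h3 | ⟨h3, h4⟩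
  · obtain ⟨Z, l, f, h4, h5, h6, -⟩ := hK.central h3
    have h7 : deg ((f : ℂ) • lin l) = f := deg_eq_of (by simp)
    refine ⟨f, 2, Nat.prime_two, ⟨_, h6.top, h7⟩, fun χ hχ => .inr ?_⟩
    by_cases hc : (deg χ).Coprime f
    · refine ⟨_, fr_mul_irr h6 (Irr_isChar hχ) (Res_irr_of_coprime h4 hχ (by
        rw [← h6.sq]; exact hc.pow_right 2)), ?_, .inl ?_⟩ <;>
        rw [(Irr_isChar h6.top).deg_mul (Irr_isChar hχ), h7]
      · exact Dvd.intro_left _ rfl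
      · exact fun e => h5.ne' (Nat.Coprime.eq_one_of_dvd (Nat.Coprime.coprime_mul_right e) dvd_rfl)
    · exact ⟨χ, hχ, dvd_rfl, .inl hc⟩
  · set N := K ⊔ ⁅G, G⁆
    obtain ⟨η, hη, h5⟩ := frob_cor h3 h4 (one_mem_Irr _) (by simp)
    rw [deg_one, mul_one] at h5
    have h1 := mt Subgroup.relIndex_eq_one.1 h3.lt.not_ge
    have h2 : K.relIndex N ≠ 1 := mt Subgroup.relIndex_eq_one.1 fun e => hK.nle (le_sup_right.trans e)
    refine ⟨_, _, Nat.minFac_prime h2, ⟨η, hη, h5⟩, fun χ hχ => .inr ?_⟩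
    obtain ⟨ψ, hψ, h6⟩ := exists_constt_Res h3.normal.le hχ
    obtain ⟨e, h7, h8⟩ := deg_dvd h3.normal hψ hχ h6
    rcases frob_dich h3 h4 hψ with ⟨ξ, hξ, h9⟩ | h9
    · refine ⟨ξ, hξ, by rw [h8, h9]; exact Nat.mul_dvd_mul_right h7 _, .inl fun e => h1 ?_⟩
      rw [h9] at e
      exact Nat.Coprime.eq_one_of_dvd (Nat.Coprime.coprime_mul_right e) dvd_rfl
    · refine ⟨χ, hχ, dvd_rfl, .inr (h8 ▸ Dvd.dvd.mul_left ((Nat.minFac_prime h2).dvd_of_dvd_pow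
        ((Nat.minFac_dvd _).trans (relIndex_dvd_of_vo ?_ hψ h9))) _)⟩
      exact ⟨le_sup_left, (sup_le hK.normal.le (der_sub G)).trans hK.normal.norm⟩

end Cfsg.Agent.PF.CH
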