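import Cfsg.Agent.Isa.J5
import Mathlib.GroupTheory.RegularWreathProduct

/-! Wreath products: Kaloujnine-Krasner embedding, Dade's theorem on M-groups. (helper12) -/

set_option autoImplicit false
set_option maxSynthPendingDepth 3
set_option linter.unusedVariables false
set_option linter.unusedSectionVars false

namespace Cfsg.Agent.PF.CH

open Cfsg.Agent.BG RegularWreathProduct
open scoped _root_.Classical ComplexConjugate commutatorElement

universe u

theorem kk_embed {G M Q : Type*} [Group G] [Group M] [Group Q] (π : G →* Q) (f : π.ker →* M)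
    (hf : Function.Injective f) : ∃ F : G →* M ≀ᵣ Q, Function.Injective F ∧ ∀ g, (F g).right = π g := by
  obtain ⟨s, hs⟩ : ∃ s : Q → G, ∀ g q, (s q)⁻¹ * g * s ((π g)⁻¹ * q) ∈ π.ker := by
    choose s hs using fun q : Q => QuotientGroup.rightRel_apply.1
      (Quotient.exact (Quotient.out_eq (Quotient.mk (QuotientGroup.rightRel π.range) q)))
    refine ⟨s, fun g q => ?_⟩
    rw [MonoidHom.mem_ker, map_mul, map_mul, map_inv, hs, hs, Quotient.sound (s := QuotientGroup.rightRel π.range)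
      (a := (π g)⁻¹ * q) (b := q) (QuotientGroup.rightRel_apply.2 ⟨g, by simp⟩)]
    group
  refine ⟨MonoidHom.mk' (fun g => ⟨fun q => f ⟨_, hs g q⟩, π g⟩) fun a b => RegularWreathProduct.ext
    (funext fun q => ?_) (map_mul π a b), (injective_iff_map_eq_one _).2 fun g e => ?_, fun _ => rfl⟩
  · refine (congrArg f (Subtype.ext ?_)).trans (map_mul f _ _)
    simp [mul_assoc]
  · have h1 : π g = 1 := congrArg right e
    have h2 := congrArg Subtype.val ((injective_iff_map_eq_one f).1 hf _ (congrFun (congrArg left e) 1))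
    simpa [h1, mul_assoc, inv_mul_eq_one] using h2

section wr
variable {M Q : Type u} [Group M] [Finite M] [Group Q] [Fintype Q] {φ ψ : Q → M → ℂ} {x : M ≀ᵣ Q}

/-- product of subgroups inside the base group -/
def wb (H : Q → Subgroup M) : Subgroup (M ≀ᵣ Q) where
  carrier := {x | x.right = 1 ∧ ∀ i, x.left i ∈ H i}
  one_mem' := ⟨rfl, fun _ => one_mem _⟩
  mul_mem' ha hb := ⟨by simp [ha.1, hb.1], fun i => mul_mem (ha.2 i) (by simpa [ha.1] using hb.2 i)⟩
  inv_mem' ha := ⟨by simp [ha.1], fun i => by simpa [ha.1] using ha.2 i⟩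

/-- the base group -/
abbrev wB (M Q : Type u) [Group M] [Group Q] : Subgroup (M ≀ᵣ Q) := wb fun _ => ⊤

theorem mem_wB : x ∈ wB M Q ↔ x.right = 1 := and_iff_left fun _ => trivial

theorem wB_normal : wB M Q ⊴ ⊤ := ⟨le_top, le_norm_iff.2 fun g _ x hx => by simp [mem_wB, mem_wB.1 hx]⟩

theorem sum_wb (H : Q → Subgroup M) (F : Q → M → ℂ) :
    ∑ x ∈ fs (wb H : Set (M ≀ᵣ Q)), ∏ i, F i (x.left i) = ∏ i, ∑ m ∈ fs (H i : Set M), F i m := by
  rw [Finset.prod_univ_sum]
  exact Finset.sum_nbij' left (fun f => ⟨f, 1⟩) (fun x hx => by simpa using (mem_fs.1 hx).2)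
    (fun f hf => mem_fs.2 ⟨rfl, by simpa using hf⟩) (fun x hx => RegularWreathProduct.ext rfl (mem_fs.1 hx).1.symm)
    (fun _ _ => rfl) fun _ _ => rfl

theorem card_wb (H : Q → Subgroup M) : (#(wb H) : ℂ) = ∏ i, (#(H i) : ℂ) := by
  simpa [card_fs_subgroup] using sum_wb H fun _ _ => 1

/-- outer tensor product of class functions -/
noncomputable def wf (φ : Q → M → ℂ) (x : M ≀ᵣ Q) : ℂ := ∏ i, φ i (x.left i)

theorem dot_wf (H : Q → Subgroup M) : dot (wb H) (wf φ) (wf ψ) = ∏ i, dot (H i) (φ i) (ψ i) := by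
  simp only [dot_def, wf, map_prod, ← Finset.prod_mul_distrib, card_wb, Finset.prod_mul_distrib (f := fun _ => _⁻¹),
    Finset.prod_inv_distrib]
  rw [sum_wb H fun i m => φ i m * conj (ψ i m)]

theorem wf_irr (h : ∀ i, φ i ∈ Irr ⊤) : Res (wB M Q) (wf φ) ∈ Irr (wB M Q) := by
  refine IsChar.mem_Irr ⟨fun _ => Res_of_not_mem _, ?_⟩ (nrm_eq_one_iff.2 (by
    simp [dot_wf, dot_Irr_self (h _)]))
  have := Finset.prod_induction (s := Finset.univ) (fun i (x : wB M Q) => φ i (x.1.left i)) (IsCharacter (wB M Q))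
    (fun _ _ => .mul) Char.isCharacter_one fun i _ => (mem_Irr_top.1 (h i)).isCharacter.comp
      (MonoidHom.mk' (fun x : wB M Q => x.1.left i) fun a b => by simp [mem_wB.1 a.2])
  convert this using 1
  ext x
  simp [Res_of_mem, wf]

theorem cj_wf (h : ∀ i, φ i ∈ Irr ⊤) (g : M ≀ᵣ Q) :
    cj g (Res (wB M Q) (wf φ)) = Res (wB M Q) (wf fun i => φ (g.right * i)) := by
  rw [cj_Res _ (wB_normal.norm (Subgroup.mem_top g))]
  refine Res_congr fun x hx => ?_
  rw [cj_apply, wf, wf, ← Equiv.prod_comp (Equiv.mulLeft g.right)]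
  exact Finset.prod_congr rfl fun i _ => by
    simpa [mem_wB.1 hx] using CF_inv (Irr_CF (h _)) (g.left (g.right * i)) trivial (x.left i)

theorem exists_wf {χ : M ≀ᵣ Q → ℂ} (hχ : χ 1 ≠ 0) :
    ∃ φ : Q → M → ℂ, (∀ i, φ i ∈ Irr ⊤) ∧ dot (wB M Q) χ (Res (wB M Q) (wf φ)) ≠ 0 := by_contra fun e => by
  have h1 : dot (wB M Q) χ (wf fun _ => ∑ θ ∈ Irr (⊤ : Subgroup M), θ 1 • θ) = 0 := by
    rw [show (wf fun _ : Q => ∑ θ ∈ Irr (⊤ : Subgroup M), θ 1 • θ) = ∑ φ ∈ Fintype.piFinset fun _ : Q =>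
      Irr (⊤ : Subgroup M), (∏ i, φ i 1) • wf φ from funext fun x => by
        simp [wf, Finset.prod_univ_sum, Finset.prod_mul_distrib], dot_sum_right]
    refine Finset.sum_eq_zero fun φ hφ => ?_
    rw [dot_smul_right, ← dot_Res_self_right, show dot _ _ _ = 0 from by_contra fun e' =>
      e ⟨φ, Fintype.mem_piFinset.1 hφ, e'⟩, mul_zero]
  rw [dot_def, Finset.sum_eq_single 1 (fun x h1 h2 => ?_) (by simp)] at h1
  · have h2 : ∑ θ ∈ Irr (⊤ : Subgroup M), θ 1 * θ 1 = #(⊤ : Subgroup M) := by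
      rw [← sum_deg_sq, Nat.cast_sum]
      exact Finset.sum_congr rfl fun θ h => by rw [Irr_apply_one h, Nat.cast_pow, sq]
    simp [wf, h2, hχ, cardC_ne_zero, Nat.card_pos.ne'] at h1
  · obtain ⟨i, h3⟩ : ∃ i, x.left i ≠ 1 := by_contra fun e' => h2 (RegularWreathProduct.ext
      (funext (by simpa using e')) (mem_fs.1 h1).1)
    rw [wf, Finset.prod_eq_zero (Finset.mem_univ i) (by simpa using sum_deg_mul_eq_zero h3), map_zero, mul_zero]

/-- M-groups -/
def MG (X : Type u) [Group X] [Finite X] : Prop :=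
  ∀ χ ∈ Irr (⊤ : Subgroup X), ∃ U : Subgroup X, ∃ l : Dual U, Ind U ⊤ (lin l) = χ

theorem MG.wreath (h : MG M) (hQ : ∀ a b : Q, a * b = b * a) : MG (M ≀ᵣ Q) := fun χ hχ => by
  obtain ⟨φ, a1, a2⟩ := exists_wf (Irr_apply_one_ne_zero hχ)
  choose U l hl using fun θ : M → ℂ => show ∃ U : Subgroup M, ∃ l : Dual U, θ ∈ Irr ⊤ → Ind U ⊤ (lin l) = θ from
    (em (θ ∈ Irr ⊤)).elim (fun e => let ⟨U, l, e⟩ := h θ e; ⟨U, l, fun _ => e⟩) fun e => ⟨⊥, 1, fun e' => (e e').elim⟩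
  let T : Subgroup (M ≀ᵣ Q) :=
    { carrier := {x | ∀ i, φ (x.right * i) = φ i}
      one_mem' := by simp
      mul_mem' := fun ha hb i => by rw [mul_right, mul_assoc, ha, hb]
      inv_mem' := fun {a} ha i => by rw [← ha, inv_right, mul_inv_cancel_left] }
  have b0 : ∀ x ∈ T, ∀ i, φ (x.right⁻¹ * i) = φ i := fun x hx => T.inv_mem hx
  let L : Subgroup (M ≀ᵣ Q) :=
    { carrier := {x | x ∈ T ∧ ∀ i, x.left i ∈ U (φ i)}
      one_mem' := ⟨one_mem _, fun _ => one_mem _⟩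
      mul_mem' := fun ha hb => ⟨mul_mem ha.1 hb.1, fun i => mul_mem (ha.2 i) (b0 _ ha.1 i ▸ hb.2 _)⟩
      inv_mem' := fun ha => ⟨inv_mem ha.1, fun i => inv_mem (ha.1 i ▸ ha.2 _)⟩ }
  have b1 : wB M Q ≤ T := fun x hx i => by rw [mem_wB.1 hx, one_mul]
  have b2 : L ≤ T := fun x hx => hx.1
  have b3 := wf_irr a1
  have b4 := wB_normal.subl b1 le_top
  obtain ⟨ψ, c1, c2, c3⟩ := Ind_inertia_surj wB_normal b3 b1 le_top (fun g hg i => by
    have := dot_Irr_self b3
    nth_rw 1 [← mem_inertia.1 hg.2] at this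
    rw [cj_wf a1, dot_Res_self_left, dot_Res_self_right, dot_wf] at this
    exact Irr_eq_of_dot_ne_zero (a1 _) (a1 _) (Finset.prod_ne_zero_iff.1 (this ▸ one_ne_zero) i
      (Finset.mem_univ i))) hχ a2
  obtain ⟨μ, d1⟩ := exists_lin_of_mul (H := L) (wf fun i => lin (l (φ i))) (by simp [wf]) fun a ha b hb => by
    rw [wf, wf, wf, ← Equiv.prod_comp (Equiv.mulLeft a.right⁻¹) fun i => lin (l (φ i)) (b.left i),
      ← Finset.prod_mul_distrib]
    refine Finset.prod_congr rfl fun i _ => ?_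
    rw [Equiv.coe_mulLeft, b0 a ha.1, ← lin_map_mul _ (ha.2 i) (b0 _ ha.1 i ▸ hb.2 _)]
    rfl
  have d2 : L ⊓ wB M Q = wb fun i => U (φ i) := Subgroup.ext fun x =>
    ⟨fun e => ⟨e.2.1, e.1.2⟩, fun e => ⟨⟨b1 (mem_wB.2 e.1), e.2⟩, mem_wB.2 e.1⟩⟩
  have d3 : wB M Q ⊔ L = T := (sup_le b1 b2).antisymm fun x hx => by
    rw [← inv_mul_cancel_right x (inl x.right)]
    exact Subgroup.mul_mem_sup (by simp [mem_wB]) ⟨hx, fun _ => one_mem _⟩
  have d4 := (isChar_lin μ).ind b2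
  have d5 : Res (wB M Q) (Ind L T (lin μ)) = Res (wB M Q) (wf φ) := by
    refine (d4.res b1).eq_of_dot_ne_zero_of_deg_le b3 ?_ (Nat.cast_injective (R := ℂ) ?_).le
    · rw [dot_Res_self_left, Ne, dot_eq_zero_comm, dot_Ind_normal b4 b2 (Irr_CF b3) (le_inertia_iff.1 fun g hg => by
        rw [mem_inertia, cj_wf a1, funext hg]), dot_Res_left inf_le_right, dot_congr (H := L ⊓ wB M Q)
          (fun _ _ => rfl) fun g hg => d1 g hg.1, d2, dot_wf]
      refine mul_ne_zero (Nat.cast_ne_zero.2 (relIndex_pos _ _).ne') (Finset.prod_ne_zero_iff.2 fun i _ => ?_)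
      rw [← dot_Ind_right le_top (CF_inv (Irr_CF (a1 i))), hl _ (a1 i), dot_Irr_self (a1 i)]
      exact one_ne_zero
    · rw [← Irr_apply_one b3, deg_Res, ← d4.apply_one, Ind_apply_one b2, lin_apply_one, mul_one, ← d3,
        relIndex_sup_norm (b2.trans b4.norm), ← Subgroup.inf_relIndex_right, relIndex_cast inf_le_right, d2, card_wb,
        card_wb, ← Finset.prod_div_distrib, Res_of_mem _ (one_mem _)]
      refine Finset.prod_congr rfl fun i _ => ?_
      rw [← relIndex_cast le_top, ← congrFun (hl _ (a1 i)), one_left, Pi.one_apply, Ind_apply_one le_top,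
        lin_apply_one, mul_one]
  obtain ⟨ν, -, e1⟩ := eq_mul_lin_of_dot b1 (Subgroup.commutator_le.2 fun a _ b _ => mem_wB.2 (by
    simp [commutatorElement_def, hQ a.right b.right])) (Irr_of_Res b1 d4 (d5 ▸ b3)) c1 (by
      rwa [← dot_Res_self_left, d5, Ne, dot_eq_zero_comm, c2])
  refine ⟨L, μ * resD b2 ν, ?_⟩
  rw [c3, e1, ← Ind_mul (CF_inv (lin_mem_CF ν)), Ind_Ind b2 le_top]
  exact Ind_congr fun g hg => by rw [lin_mul, Pi.mul_apply, Pi.mul_apply, lin_resD_apply b2 ν hg]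

end wr

theorem exists_MG (n : ℕ) : ∀ {G : Type u} [Group G] [Finite G], Nat.card G = n → Group.IsSolvable G →
    ∃ (M : Type u) (_ : Group M) (_ : Finite M), MG M ∧ ∃ f : G →* M, Function.Injective f := by
  induction n using Nat.strong_induction_on with | _ n ih => ?_
  intro G _ _ hn hs
  rcases subsingleton_or_nontrivial G with h | h
  · exact ⟨G, _, ‹_›, fun χ hχ => let ⟨l, e⟩ := Irr_exists_lin_of_comm hχ ⟨⟨fun _ _ => Subsingleton.elim _ _⟩⟩
      ⟨⊤, l, (Ind_self_of_CF (lin_mem_CF l)).trans e.symm⟩, .id G, fun _ _ => id⟩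
  obtain ⟨M, _, _, h1, f, h2⟩ := ih _ (hn ▸ Subgroup.card_top (G := G) ▸ proper_card (show
    (Abelianization.of : G →* _).ker < ⊤ from Abelianization.ker_of G ▸
      Group.IsSolvable.commutator_lt_top_of_nontrivial G)) rfl inferInstance
  obtain ⟨F, h3, -⟩ := kk_embed _ f h2
  have := Fintype.ofFinite (Abelianization G)
  exact ⟨_, _, inferInstance, h1.wreath mul_comm, F, h3⟩

end Cfsg.Agent.PF.CH
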